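import Groth.Agent.H11PushDepth.Stalk
import Groth.Agent.H4Depth.IdealDepth
import Groth.Prelude.Def_FlatMod2

/-!
# Depth of stalks of direct images
-/

set_option autoImplicit false
set_option linter.style.haveILetI false

noncomputable section

universe u

open CategoryTheory CategoryTheory.Limits AlgebraicGeometry TopologicalSpace Opposite
open RingTheory.Sequence Pointwise

namespace Groth.Agent.H11PushDepth

open Groth.Agent

/-- A finite module without elements killed by an ideal has a regular element in it. -/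
theorem exists_regular {A : Type u} [CommRing A] [IsNoetherianRing A] {N : Type u} [AddCommGroup N]
    [Module A N] [Module.Finite A N] (I : Ideal A) (h : ∀ x : N, (∀ a ∈ I, a • x = 0) → x = 0) :
    ∃ a ∈ I, IsSMulRegular N a := by
  cases subsingleton_or_nontrivial N
  · exact ⟨0, I.zero_mem, IsSMulRegular.zero⟩
  by_contra! hno
  obtain ⟨J, hJ⟩ := associatedPrimes.nonempty A N
  obtain ⟨p, hp, hle⟩ : ∃ p ∈ associatedPrimes A N, I ≤ p := by
    apply (Ideal.subset_union_prime_finite (associatedPrimes.finite A N) J J _).mp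
    · rw [biUnion_associatedPrimes_eq_compl_regular A N]
      exact fun r hr ↦ hno r hr
    · exact fun K hK _ _ ↦ IsAssociatedPrime.isPrime hK
  obtain ⟨hp', x, rfl⟩ := isAssociatedPrime_iff.1 hp
  refine hp'.ne_top ((Ideal.eq_top_iff_one _).2 ?_)
  have hx : x = 0 := h x fun a ha => by
    simpa [Submodule.mem_colon_singleton] using hle ha
  simp [Submodule.mem_colon_singleton, hx]

/-- Two regular elements bound the depth from below. -/
theorem two_le_depth {A : Type u} [CommRing A] [IsLocalRing A] {N : Type u} [AddCommGroup N] [Module A N]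
    {t u : A} (ht : t ∈ IsLocalRing.maximalIdeal A) (hu : u ∈ IsLocalRing.maximalIdeal A)
    (h1 : IsSMulRegular N t) (h2 : IsSMulRegular (QuotSMulTop t N) u) : (2 : ℕ∞) ≤ LocCoh.depth A N := by
  have hreg : IsWeaklyRegular N [t, u] :=
    (isWeaklyRegular_cons_iff N t [u]).2 ⟨h1, (isWeaklyRegular_singleton_iff _ u).2 h2⟩
  exact H4Depth.length_le_idealDepth hreg fun r hr => by
    rcases List.mem_cons.1 hr with rfl | hr
    · exact ht
    · exact (List.mem_singleton.1 hr) ▸ hu

variable {X S : Scheme.{u}} (f : X ⟶ S) (F : X.Modules) {s : S}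

/-- At a proper generisation some element of the maximal ideal becomes a unit. -/
theorem exists_isUnit {y : S} (h : y ⤳ s) (hne : y ≠ s) :
    ∃ a ∈ IsLocalRing.maximalIdeal (S.presheaf.stalk s), IsUnit (S.presheaf.stalkSpecializes h a) := by
  by_contra! hno
  obtain ⟨V, hV, hsV, -⟩ := exists_isAffineOpen_mem_and_subset (X := S) (x := s) (U := ⊤) trivial
  have hyV : y ∈ V := h.mem_open V.2 hsV
  refine hne ?_
  have e : hV.primeIdealOf ⟨y, hyV⟩ = hV.primeIdealOf ⟨s, hsV⟩ := by
    refine PrimeSpectrum.ext ?_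
    letI := TopCat.Presheaf.algebra_section_stalk S.presheaf (⟨s, hsV⟩ : V)
    letI := TopCat.Presheaf.algebra_section_stalk S.presheaf (⟨y, hyV⟩ : V)
    haveI := hV.isLocalization_stalk ⟨s, hsV⟩
    haveI := hV.isLocalization_stalk ⟨y, hyV⟩
    ext g
    rw [← IsLocalization.AtPrime.under_maximalIdeal (S.presheaf.stalk y) (hV.primeIdealOf ⟨y, hyV⟩).asIdeal,
      ← IsLocalization.AtPrime.under_maximalIdeal (S.presheaf.stalk s) (hV.primeIdealOf ⟨s, hsV⟩).asIdeal]
    show S.presheaf.germ V y hyV g ∈ IsLocalRing.maximalIdeal _ ↔ S.presheaf.germ V s hsV g ∈ IsLocalRing.maximalIdeal _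
    rw [← TopCat.Presheaf.germ_stalkSpecializes_apply S.presheaf hsV h g]
    refine ⟨fun hy => ?_, fun hs => hno _ hs⟩
    rw [IsLocalRing.mem_maximalIdeal, mem_nonunits_iff] at hy ⊢
    exact fun hu => hy (hu.map (S.presheaf.stalkSpecializes h).hom)
  have h1 := congrArg hV.fromSpec e
  rwa [hV.fromSpec_primeIdealOf, hV.fromSpec_primeIdealOf] at h1

variable [QuasiCompact f]

/-- Off the image nothing is killed by the maximal ideal. -/
theorem eq_zero_of_killed (hs : s ∉ Set.range f) (m : M f F s)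
    (hm : ∀ a ∈ IsLocalRing.maximalIdeal (S.presheaf.stalk s), a • m = 0) : m = 0 :=
  eq_zero_of_spG f F m fun p hp => by
    obtain ⟨a, ha, hu⟩ := exists_isUnit hp fun e => hs ⟨p, e⟩
    have h1 := spG_smul f F hp a m
    rw [hm a ha, map_zero] at h1
    exact ((hu.map (f.stalkMap p).hom).smul_eq_zero).1 h1.symm

variable [QuasiSeparated f]

/-- Off the image nothing nonzero modulo a regular element is killed by the maximal ideal. -/
theorem mem_smul_of_killed (hs : s ∉ Set.range f) {t : S.presheaf.stalk s} (ht : IsSMulRegular (M f F s) t)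
    (x : M f F s) (hx : ∀ a ∈ IsLocalRing.maximalIdeal (S.presheaf.stalk s), ∃ y, t • y = a • x) :
    ∃ z, t • z = x := by
  choose y hy using hx
  have hsym : ∀ a ha b hb, b • y a ha = a • y b hb := fun a ha b hb => ht (by
    show t • (b • y a ha) = t • (a • y b hb)
    rw [smul_comm, hy, smul_comm t a, hy, smul_comm])
  choose α hα hαu using fun (p : X) (hp : f p ⤳ s) => exists_isUnit hp fun e => hs ⟨p, e⟩
  let v : ∀ (p : X) (hp : f p ⤳ s), X.presheaf.stalk p := fun p hp =>
    ↑((hαu p hp).map (f.stalkMap p).hom).unit⁻¹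
  let ξ : ∀ p : X, f p ⤳ s → F.presheaf.stalk p := fun p hp => v p hp • spG f F p hp (y _ (hα p hp))
  have hξ : ∀ (a : S.presheaf.stalk s) (ha : a ∈ IsLocalRing.maximalIdeal _) (p : X) (hp : f p ⤳ s),
      f.stalkMap p (S.presheaf.stalkSpecializes hp a) • ξ p hp = spG f F p hp (y a ha) := by
    intro a ha p hp
    rw [smul_comm, ← spG_smul, ← hsym a ha _ (hα p hp), spG_smul, smul_smul,
      IsUnit.val_inv_mul ((hαu p hp).map (f.stalkMap p).hom), one_smul]
  obtain ⟨z, hz⟩ := exists_of_local f F ξ fun p hp => by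
    let a := α p hp
    have ha := hα p hp
    obtain ⟨V, hV, a₀, σ, hae, hye⟩ := H06Mod.exists_germ_pair _ s a (y a ha)
    let W := X.basicOpen (f.app V a₀)
    have hgerm : ∀ q (hq : f q ⤳ s), f.stalkMap q (S.presheaf.stalkSpecializes hq a) =
        X.presheaf.germ (f ⁻¹ᵁ V) q (hq.mem_open V.2 hV) (f.app V a₀) := fun q hq => by
      rw [← hae, TopCat.Presheaf.germ_stalkSpecializes_apply, Scheme.Hom.germ_stalkMap_apply]
    have hpW : p ∈ W := by
      rw [Scheme.mem_basicOpen X (f.app V a₀) p (hp.mem_open V.2 hV), ← hgerm p hp]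
      exact (hαu p hp).map (f.stalkMap p).hom
    have huW : IsUnit (X.presheaf.map (homOfLE (X.basicOpen_le (f.app V a₀))).op (f.app V a₀)) :=
      RingedSpace.isUnit_res_basicOpen _ (f.app V a₀)
    obtain ⟨c, hc⟩ := huW.exists_left_inv
    refine ⟨W, hpW, (c : Γ(X, W)) • F.presheaf.map (homOfLE (X.basicOpen_le _) : W ⟶ f ⁻¹ᵁ V).op σ,
      fun q hq hqs => ?_⟩
    rw [H06Mod.germ_smul, TopCat.Presheaf.germ_res_apply]
    have h1 : F.presheaf.germ (f ⁻¹ᵁ V) q (X.basicOpen_le _ hq) σ = spG f F q hqs (y a ha) := by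
      rw [← hye, spG_germ]
    rw [h1, ← hξ a ha q hqs, smul_smul, hgerm q hqs]
    have h2 := congrArg (X.presheaf.germ W q hq) hc
    rw [map_mul, map_one] at h2
    erw [TopCat.Presheaf.germ_res_apply] at h2
    exact (congrArg (· • ξ q hqs) h2).trans (one_smul _ _)
  refine ⟨z, ext_spG f F fun p hp => ?_⟩
  rw [spG_smul, hz]
  obtain ⟨a, ha, hu⟩ := exists_isUnit hp fun e => hs ⟨p, e⟩
  refine ((hu.map (f.stalkMap p).hom).smul_left_cancel).1 ?_
  rw [smul_comm, hξ a ha p hp, ← spG_smul, ← spG_smul, hy]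

/-- Off the image the depth is at least two. -/
theorem two_le_depth_of_notMem (hs : s ∉ Set.range f) [IsNoetherianRing (S.presheaf.stalk s)]
    [Module.Finite (S.presheaf.stalk s) (M f F s)] :
    (2 : ℕ∞) ≤ LocCoh.depth (S.presheaf.stalk s) (M f F s) := by
  obtain ⟨t, htm, ht⟩ := exists_regular (N := M f F s) _ (eq_zero_of_killed f F hs)
  obtain ⟨u, hum, hu⟩ := exists_regular (N := QuotSMulTop t (M f F s)) (IsLocalRing.maximalIdeal _) fun x hx => by
    obtain ⟨x, rfl⟩ := Submodule.Quotient.mk_surjective _ x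
    rw [Submodule.Quotient.mk_eq_zero]
    obtain ⟨z, hz⟩ := mem_smul_of_killed f F hs ht x fun a ha => by
      have h1 := hx a ha
      rw [← Submodule.Quotient.mk_smul, Submodule.Quotient.mk_eq_zero] at h1
      obtain ⟨y, -, hy⟩ := (Submodule.mem_smul_pointwise_iff_exists _ _ _).1 h1
      exact ⟨y, hy⟩
    exact hz ▸ Submodule.smul_mem_pointwise_smul z t ⊤ trivial
  exact two_le_depth htm hum ht hu

omit [QuasiCompact f] [QuasiSeparated f] in
/-- A weakly regular sequence of the local ring stays so on the stalks of a flat module. -/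
theorem isWeaklyRegular_stalk (hflat : FlatMod.IsFlatOver f F) {rs : List (S.presheaf.stalk s)}
    (hrs : IsWeaklyRegular (S.presheaf.stalk s) rs) {p : X} (hp : f p ⤳ s) :
    letI := Module.compHom (F.presheaf.stalk p) ((f.stalkMap p).hom.comp (S.presheaf.stalkSpecializes hp).hom)
    IsWeaklyRegular (F.presheaf.stalk p) rs := by
  let A := S.presheaf.stalk s
  let B := S.presheaf.stalk (f p)
  letI : Algebra A B := (S.presheaf.stalkSpecializes hp).hom.toAlgebra
  letI := FlatMod.moduleStalkOver f F p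
  letI := Module.compHom (F.presheaf.stalk p) ((f.stalkMap p).hom.comp (S.presheaf.stalkSpecializes hp).hom)
  haveI : IsScalarTower A B (F.presheaf.stalk p) := .of_algebraMap_smul fun _ _ => rfl
  haveI : Module.Flat B (F.presheaf.stalk p) := hflat p
  haveI : Module.Flat A B := by
    obtain ⟨V, hV, hsV, -⟩ := exists_isAffineOpen_mem_and_subset (X := S) (x := s) (U := ⊤) trivial
    have hyV : f p ∈ V := hp.mem_open V.2 hsV
    letI := TopCat.Presheaf.algebra_section_stalk S.presheaf (⟨s, hsV⟩ : V)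
    letI := TopCat.Presheaf.algebra_section_stalk S.presheaf (⟨f p, hyV⟩ : V)
    haveI := hV.isLocalization_stalk ⟨s, hsV⟩
    haveI := hV.isLocalization_stalk ⟨f p, hyV⟩
    haveI : IsScalarTower Γ(S, V) A B := .of_algebraMap_eq fun g =>
      (TopCat.Presheaf.germ_stalkSpecializes_apply S.presheaf hsV hp g).symm
    haveI : Module.Flat Γ(S, V) B := IsLocalization.flat B (hV.primeIdealOf ⟨f p, hyV⟩).asIdeal.primeCompl
    exact (Module.flat_iff_of_isLocalization A (hV.primeIdealOf ⟨s, hsV⟩).asIdeal.primeCompl B).2 inferInstance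
  haveI : Module.Flat A (F.presheaf.stalk p) := Module.Flat.trans A B _
  exact ((TensorProduct.rid A (F.presheaf.stalk p)).isWeaklyRegular_congr rs).1
    (hrs.isWeaklyRegular_lTensor (M₂ := F.presheaf.stalk p))

omit [QuasiSeparated f] in
/-- A flat module: a regular element stays regular. -/
theorem regular_of_flat (hflat : FlatMod.IsFlatOver f F) {t : S.presheaf.stalk s}
    (ht : IsWeaklyRegular (S.presheaf.stalk s) [t]) : IsSMulRegular (M f F s) t := fun m m' h =>
  ext_spG f F fun p hp => by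
    letI := Module.compHom (F.presheaf.stalk p) ((f.stalkMap p).hom.comp (S.presheaf.stalkSpecializes hp).hom)
    have h1 : IsSMulRegular (F.presheaf.stalk p) t :=
      (isWeaklyRegular_singleton_iff _ t).1 (isWeaklyRegular_stalk f F hflat ht hp)
    exact h1 (((spG_smul f F hp t m).symm.trans (congrArg (spG f F p hp) h)).trans (spG_smul f F hp t m'))

/-- A flat module: two regular elements stay regular. -/
theorem regular_quot_of_flat (hflat : FlatMod.IsFlatOver f F) {t u : S.presheaf.stalk s}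
    (h : IsWeaklyRegular (S.presheaf.stalk s) [t, u]) : IsSMulRegular (QuotSMulTop t (M f F s)) u := by
  rw [isSMulRegular_iff_right_eq_zero_of_smul]
  intro x hx
  obtain ⟨x, rfl⟩ := Submodule.Quotient.mk_surjective _ x
  rw [← Submodule.Quotient.mk_smul, Submodule.Quotient.mk_eq_zero] at hx
  rw [Submodule.Quotient.mk_eq_zero]
  obtain ⟨y, -, hy⟩ := (Submodule.mem_smul_pointwise_iff_exists _ _ _).1 hx
  let φ : ∀ (p : X), f p ⤳ s → S.presheaf.stalk s →+* X.presheaf.stalk p :=
    fun p hp => (f.stalkMap p).hom.comp (S.presheaf.stalkSpecializes hp).hom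
  have hdiv : ∀ p (hp : f p ⤳ s), ∃ w, φ p hp t • w = spG f F p hp x ∧
      ∀ w', φ p hp t • w' = spG f F p hp x → w' = w := fun p hp => by
    letI := Module.compHom (F.presheaf.stalk p) (φ p hp)
    obtain ⟨h1, h2⟩ := (isWeaklyRegular_cons_iff _ t [u]).1 (isWeaklyRegular_stalk f F hflat h hp)
    have h3 := (isWeaklyRegular_singleton_iff _ u).1 h2
    have hmem : spG f F p hp x ∈ t • (⊤ : Submodule (S.presheaf.stalk s) (F.presheaf.stalk p)) := by
      rw [← Submodule.Quotient.mk_eq_zero]
      refine (isSMulRegular_iff_right_eq_zero_of_smul.1 h3) _ ?_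
      rw [← Submodule.Quotient.mk_smul, Submodule.Quotient.mk_eq_zero]
      refine (Submodule.mem_smul_pointwise_iff_exists _ _ _).2 ⟨spG f F p hp y, trivial, ?_⟩
      exact ((spG_smul f F hp t y).symm.trans (congrArg (spG f F p hp) hy)).trans (spG_smul f F hp u x)
    obtain ⟨w, -, hw⟩ := (Submodule.mem_smul_pointwise_iff_exists _ _ _).1 hmem
    exact ⟨w, hw, fun w' hw' => h1 (hw'.trans hw.symm)⟩
  choose ξ hξ hξu using hdiv
  obtain ⟨z, hz⟩ := exists_of_local f F ξ fun p hp => by
    obtain ⟨V, hV, t₀, σ, ht, hxσ⟩ := H06Mod.exists_germ_pair _ s t x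
    obtain ⟨B, hpB, ω, hω⟩ := TopCat.Presheaf.exists_germ_eq F.presheaf (ξ p hp)
    have hφ : ∀ q (hq : f q ⤳ s), φ q hq t = X.presheaf.germ (f ⁻¹ᵁ V) q (hq.mem_open V.2 hV) (f.app V t₀) :=
      fun q hq => by
        show f.stalkMap q (S.presheaf.stalkSpecializes hq t) = _
        rw [← ht, TopCat.Presheaf.germ_stalkSpecializes_apply, Scheme.Hom.germ_stalkMap_apply]
    have hxg : ∀ q (hq : f q ⤳ s), spG f F q hq x = F.presheaf.germ (f ⁻¹ᵁ V) q (hq.mem_open V.2 hV) σ :=
      fun q hq => by rw [← hxσ, spG_germ]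
    let B' := B ⊓ f ⁻¹ᵁ V
    have h1 : F.presheaf.germ B' p ⟨hpB, hp.mem_open V.2 hV⟩
        (X.presheaf.map (homOfLE (inf_le_right : B' ≤ f ⁻¹ᵁ V)).op (f.app V t₀) •
          F.presheaf.map (homOfLE (inf_le_left : B' ≤ B)).op ω) =
        F.presheaf.germ B' p ⟨hpB, hp.mem_open V.2 hV⟩
          (F.presheaf.map (homOfLE (inf_le_right : B' ≤ f ⁻¹ᵁ V)).op σ) := by
      rw [H06Mod.germ_smul, TopCat.Presheaf.germ_res_apply, TopCat.Presheaf.germ_res_apply,
        TopCat.Presheaf.germ_res_apply, hω, ← hφ p hp, ← hxg p hp]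
      exact hξ p hp
    obtain ⟨W, hpW, i, i', hW⟩ := F.presheaf.germ_eq p _ _ _ _ h1
    refine ⟨W, hpW, F.presheaf.map (homOfLE (i.le.trans inf_le_left) : W ⟶ B).op ω, fun q hq hqs => hξu q hqs _ ?_⟩
    have h2 := congrArg (F.presheaf.germ W q hq) hW
    rw [TopCat.Presheaf.germ_res_apply, TopCat.Presheaf.germ_res_apply, H06Mod.germ_smul,
      TopCat.Presheaf.germ_res_apply, TopCat.Presheaf.germ_res_apply, TopCat.Presheaf.germ_res_apply,
      ← hφ q hqs, ← hxg q hqs] at h2
    rw [TopCat.Presheaf.germ_res_apply]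
    exact h2
  have hxz : t • z = x := ext_spG f F fun p hp => by rw [spG_smul, hz]; exact hξ p hp
  exact hxz ▸ Submodule.smul_mem_pointwise_smul z t ⊤ trivial

/-- A flat module: depth is at least the minimum of two and the depth of the local ring. -/
theorem min_le_depth_of_flat (hflat : FlatMod.IsFlatOver f F) :
    min (2 : ℕ∞) (LocCoh.depth (S.presheaf.stalk s) (S.presheaf.stalk s)) ≤
      LocCoh.depth (S.presheaf.stalk s) (M f F s) := by
  let A := S.presheaf.stalk s
  have hne : IsLocalRing.maximalIdeal A • (⊤ : Submodule A A) ≠ ⊤ := by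
    rw [smul_eq_mul, Ideal.mul_top]
    exact (IsLocalRing.maximalIdeal.isMaximal A).ne_top
  by_cases h2 : ((2 : ℕ) : ℕ∞) ≤ LocCoh.depth A A
  · obtain ⟨rs, hlen, hmem, hreg⟩ := (H4Depth.le_idealDepth_iff_exists hne).1 h2
    obtain ⟨t, u, rfl⟩ := List.length_eq_two.1 hlen
    refine (min_le_left _ _).trans (two_le_depth (hmem t (by simp)) (hmem u (by simp)) ?_
      (regular_quot_of_flat f F hflat hreg))
    exact regular_of_flat f F hflat ((isWeaklyRegular_singleton_iff _ t).2 ((isWeaklyRegular_cons_iff _ t [u]).1 hreg).1)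
  · refine (min_le_right _ _).trans ?_
    by_cases h1 : ((1 : ℕ) : ℕ∞) ≤ LocCoh.depth A A
    · have hle : LocCoh.depth A A ≤ ((1 : ℕ) : ℕ∞) := by
        have hne' : LocCoh.depth A A ≠ ⊤ := fun h => h2 (by rw [h]; exact le_top)
        obtain ⟨n, hn⟩ := ENat.ne_top_iff_exists.1 hne'
        rw [← hn] at h2 ⊢
        exact_mod_cast Nat.le_of_lt_succ (not_le.1 fun h => h2 (by exact_mod_cast h))
      obtain ⟨rs, hlen, hmem, hreg⟩ := (H4Depth.le_idealDepth_iff_exists hne).1 h1
      obtain ⟨t, rfl⟩ := List.length_eq_one_iff.1 hlen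
      exact hle.trans (H4Depth.length_le_idealDepth (rs := [t])
        ((isWeaklyRegular_singleton_iff _ t).2 (regular_of_flat f F hflat hreg)) hmem)
    · have h0 : LocCoh.depth A A = 0 := Order.lt_one_iff.1 (not_le.1 (by exact_mod_cast h1))
      rw [h0]
      exact zero_le

end Groth.Agent.H11PushDepth
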