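import Groth.Agent.H17.QcImage
import Groth.Agent.H06Mod.StalkPullback
import Groth.Prelude.Def_MeroDiv
import Mathlib.AlgebraicGeometry.Morphisms.QuasiSeparated

/-!
# The stalk of a direct image as families of germs over the generisations
-/

set_option autoImplicit false
set_option linter.style.haveILetI false

noncomputable section

universe u

open CategoryTheory CategoryTheory.Limits AlgebraicGeometry TopologicalSpace Opposite

namespace Groth.Agent.H11PushDepth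

open Groth.Agent

variable {X S : Scheme.{u}} (f : X ⟶ S) (F : X.Modules) {s : S}

/-- The stalk of the direct image. -/
abbrev M (s : S) := ((Scheme.Modules.pushforward f).obj F).presheaf.stalk s

/-- A germ at a point lying over a generisation. -/
def spG (p : X) (h : f p ⤳ s) : M f F s →+ F.presheaf.stalk p :=
  (F.presheaf.stalkPushforward Ab.{u} f.base p).hom.comp
    (((Scheme.Modules.pushforward f).obj F).presheaf.stalkSpecializes h).hom

theorem spG_germ {p : X} (h : f p ⤳ s) {V : S.Opens} (hs : s ∈ V) (σ : Γ((Scheme.Modules.pushforward f).obj F, V)) :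
    spG f F p h (((Scheme.Modules.pushforward f).obj F).presheaf.germ V s hs σ) =
      F.presheaf.germ (f ⁻¹ᵁ V) p (h.mem_open V.2 hs) σ := by
  show F.presheaf.stalkPushforward Ab.{u} f.base p ((((Scheme.Modules.pushforward f).obj F).presheaf.stalkSpecializes h) _) = _
  erw [TopCat.Presheaf.germ_stalkSpecializes_apply]
  exact congr($(TopCat.Presheaf.stalkPushforward_germ Ab f.base F.presheaf V p (h.mem_open V.2 hs)) σ)

theorem spG_smul {p : X} (h : f p ⤳ s) (a : S.presheaf.stalk s) (m : M f F s) :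
    spG f F p h (a • m) = f.stalkMap p (S.presheaf.stalkSpecializes h a) • spG f F p h m := by
  obtain ⟨V, hV, a, σ, rfl, rfl⟩ := H06Mod.exists_germ_pair _ s a m
  rw [← H06Mod.germ_smul, spG_germ, spG_germ, TopCat.Presheaf.germ_stalkSpecializes_apply,
    Scheme.Hom.germ_stalkMap_apply]
  exact H06Mod.germ_smul F (f ⁻¹ᵁ V) (x := p) (h.mem_open V.2 hV) (f.app V a) σ

/-- Shrinking a neighbourhood of `s` so that a quasi-compact open lands in a given open. -/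
theorem shrink {V : S.Opens} (hV : IsAffineOpen V) (hsV : s ∈ V)
    {W O : X.Opens} (hWV : W ≤ f ⁻¹ᵁ V) (hW : IsCompact (W : Set X)) (hO : ∀ q ∈ W, f q ⤳ s → q ∈ O) :
    ∃ V' : S.Opens, IsAffineOpen V' ∧ s ∈ V' ∧ V' ≤ V ∧ W ⊓ f ⁻¹ᵁ V' ≤ O := by
  haveI : CompactSpace (W : Scheme.{u}) := isCompact_iff_compactSpace.mp hW
  let C : Closeds W.toScheme := ⟨(W.ι ⁻¹ᵁ O : Set W.toScheme)ᶜ, (W.ι ⁻¹ᵁ O).2.isClosed_compl⟩
  let Z := Scheme.IdealSheafData.vanishingIdeal C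
  haveI : CompactSpace Z.subscheme := QuasiCompact.compactSpace_of_compactSpace Z.subschemeι
  haveI : IsAffine V.toScheme := hV
  let g : Z.subscheme ⟶ V.toScheme := Z.subschemeι ≫ f.resLE V W hWV
  have hmem : (⟨s, hsV⟩ : V) ∉ closure (Set.range g) := by
    intro hcl
    obtain ⟨c, hc⟩ := H17.exists_specializes_of_mem_closure_range g hcl
    have h1 : f (W.ι (Z.subschemeι c)) ⤳ s := by
      have h2 := hc.map V.ι.continuous
      rwa [show V.ι (g c) = f (W.ι (Z.subschemeι c)) by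
        rw [← Scheme.Hom.comp_apply, ← Scheme.Hom.comp_apply, ← Scheme.Hom.comp_apply]
        simp [g]] at h2
    have h3 : Z.subschemeι c ∈ (C : Set W.toScheme) := by
      rw [← Scheme.IdealSheafData.coe_support_vanishingIdeal C, ← Scheme.IdealSheafData.range_subschemeι]
      exact ⟨c, rfl⟩
    exact h3 (hO _ (Z.subschemeι c).2 h1)
  obtain ⟨V', hV', hsV', hle⟩ := exists_isAffineOpen_mem_and_subset (x := s)
    (U := V.ι ''ᵁ ⟨(closure (Set.range g))ᶜ, isClosed_closure.isOpen_compl⟩) ⟨⟨s, hsV⟩, hmem, rfl⟩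
  refine ⟨V', hV', hsV', fun y hy => ?_, fun q hq => ?_⟩
  · obtain ⟨z, -, rfl⟩ := hle hy
    exact z.2
  · by_contra hqO
    obtain ⟨z, hz, hzq⟩ := hle hq.2
    have hC : (⟨q, hq.1⟩ : W) ∈ (C : Set W.toScheme) := hqO
    rw [← Scheme.IdealSheafData.coe_support_vanishingIdeal C, ← Scheme.IdealSheafData.range_subschemeι] at hC
    obtain ⟨c, hc⟩ := hC
    refine hz (subset_closure ⟨c, V.ι.isOpenEmbedding.injective ?_⟩)
    refine Eq.trans ?_ hzq.symm
    rw [show V.ι (g c) = f (W.ι (Z.subschemeι c)) by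
      rw [← Scheme.Hom.comp_apply, ← Scheme.Hom.comp_apply, ← Scheme.Hom.comp_apply]
      simp [g], hc]
    rfl

variable [QuasiCompact f]

/-- An element of the stalk is determined by its germs. -/
theorem eq_zero_of_spG (m : M f F s) (h : ∀ p hp, spG f F p hp m = 0) : m = 0 := by
  obtain ⟨V₀, hsV₀, σ, rfl⟩ := TopCat.Presheaf.exists_germ_eq ((Scheme.Modules.pushforward f).obj F).presheaf m
  obtain ⟨V, hV, hsV, hVV₀⟩ := exists_isAffineOpen_mem_and_subset (x := s) (U := V₀) hsV₀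
  let O : X.Opens := ⟨{q | ∃ (W : X.Opens) (_ : q ∈ W) (hW : W ≤ f ⁻¹ᵁ V₀),
      F.presheaf.map (homOfLE hW).op σ = 0}, by
    refine isOpen_iff_forall_mem_open.2 fun q hq => ?_
    obtain ⟨W, hqW, hW, h0⟩ := hq
    exact ⟨W, fun r hr => ⟨W, hr, hW, h0⟩, W.2, hqW⟩⟩
  obtain ⟨V', -, hsV', hV'V, hle⟩ := shrink f (hV := hV) (hsV := hsV) (W := f ⁻¹ᵁ V) (O := O) le_rfl
    (f.isCompact_preimage hV.isCompact) fun q hq hqs => by
      have h1 := h q hqs
      rw [spG_germ f F hqs hsV₀] at h1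
      obtain ⟨W, hqW, i, i', h2⟩ := F.presheaf.germ_eq (U := f ⁻¹ᵁ V₀) (V := f ⁻¹ᵁ V₀) q (hqs.mem_open V₀.2 hsV₀) (hqs.mem_open V₀.2 hsV₀) σ 0
        (h1.trans (map_zero _).symm)
      exact ⟨W, hqW, i.le, h2.trans (map_zero _)⟩
  have h0 : F.presheaf.map (homOfLE (f.preimage_mono (hV'V.trans hVV₀))).op σ = 0 := by
    refine TopCat.Presheaf.section_ext ⟨F.presheaf, F.isSheaf⟩ (f ⁻¹ᵁ V') _ _ fun q hq => ?_
    obtain ⟨W, hqW, hW, hW0⟩ := hle ⟨hV'V hq, hq⟩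
    refine (F.presheaf.germ_res_apply _ q hq σ).trans (Eq.trans ?_ (map_zero _).symm)
    rw [← F.presheaf.germ_res_apply (homOfLE hW) q hqW σ, hW0, map_zero]
  have hres : ((Scheme.Modules.pushforward f).obj F).presheaf.map (homOfLE (hV'V.trans hVV₀)).op σ = 0 := h0
  rw [← TopCat.Presheaf.germ_res_apply _ (homOfLE (hV'V.trans hVV₀)) s hsV' σ, hres, map_zero]

theorem ext_spG {m m' : M f F s} (h : ∀ p hp, spG f F p hp m = spG f F p hp m') : m = m' :=
  sub_eq_zero.1 (eq_zero_of_spG f F _ fun p hp => by rw [map_sub, h p hp, sub_self])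

variable [QuasiSeparated f]

/-- A family of germs which is locally given by sections comes from the stalk. -/
theorem exists_of_local (ξ : ∀ p : X, f p ⤳ s → F.presheaf.stalk p)
    (h : ∀ p, f p ⤳ s → ∃ (W : X.Opens) (_ : p ∈ W) (σ : Γ(F, W)),
      ∀ q (hq : q ∈ W) (hqs : f q ⤳ s), F.presheaf.germ W q hq σ = ξ q hqs) :
    ∃ m : M f F s, ∀ p hp, spG f F p hp m = ξ p hp := by
  classical
  obtain ⟨V₀, hV₀, hsV₀, -⟩ := exists_isAffineOpen_mem_and_subset (X := S) (x := s) (U := ⊤) trivial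
  haveI : IsAffine V₀.toScheme := hV₀
  let P := {p : X // f p ⤳ s}
  have h' : ∀ p : P, ∃ (W : X.Opens), IsAffineOpen W ∧ p.1 ∈ W ∧ W ≤ f ⁻¹ᵁ V₀ ∧ ∃ σ : Γ(F, W),
      ∀ q (hq : q ∈ W) (hqs : f q ⤳ s), F.presheaf.germ W q hq σ = ξ q hqs := fun p => by
    obtain ⟨W, hpW, σ, hσ⟩ := h p.1 p.2
    obtain ⟨A, hA, hpA, hle⟩ := exists_isAffineOpen_mem_and_subset (x := p.1) (U := W ⊓ f ⁻¹ᵁ V₀)
      ⟨hpW, p.2.mem_open V₀.2 hsV₀⟩
    have hAW : A ≤ W := hle.trans inf_le_left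
    exact ⟨A, hA, hpA, hle.trans inf_le_right, F.presheaf.map (homOfLE hAW).op σ, fun q hq hqs => by
      rw [F.presheaf.germ_res_apply]; exact hσ q (hAW hq) hqs⟩
  choose W hWa hpW hWV σ hσ using h'
  obtain ⟨V₁, hV₁, hsV₁, hV₁₀, hle₁⟩ := shrink f (hV := hV₀) (hsV := hsV₀) (W := f ⁻¹ᵁ V₀) (O := ⨆ p, W p) le_rfl
    (f.isCompact_preimage hV₀.isCompact) fun q _ hqs => Opens.mem_iSup.2 ⟨⟨q, hqs⟩, hpW _⟩
  obtain ⟨T, hT⟩ := (f.isCompact_preimage hV₁.isCompact).elim_finite_subcover (fun p => (W p : Set X))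
    (fun p => (W p).2) fun q hq => Set.mem_iUnion.2 (Opens.mem_iSup.1 (hle₁ ⟨hV₁₀ hq, hq⟩))
  haveI : QuasiSeparatedSpace (f ⁻¹ᵁ V₀).toScheme := quasiSeparatedSpace_of_quasiSeparated (f ∣_ V₀)
  -- shrink until the finitely many sections agree
  have key : ∀ U : Finset (P × P), ∃ V : S.Opens, IsAffineOpen V ∧ s ∈ V ∧ V ≤ V₁ ∧
      ∀ ij ∈ U, ∀ q (hi : q ∈ W ij.1) (hj : q ∈ W ij.2), f q ∈ V →
        F.presheaf.germ (W ij.1) q hi (σ ij.1) = F.presheaf.germ (W ij.2) q hj (σ ij.2) := by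
    intro U
    induction U using Finset.induction with
    | empty => exact ⟨V₁, hV₁, hsV₁, le_rfl, fun _ h => absurd h (Finset.notMem_empty _)⟩
    | @insert ij U _ ih =>
      obtain ⟨V, hV, hsV, hVV₁, hagree⟩ := ih
      let O : X.Opens := ⟨{q | ∃ (B : X.Opens) (_ : q ∈ B) (hi : B ≤ W ij.1) (hj : B ≤ W ij.2),
          F.presheaf.map (homOfLE hi).op (σ ij.1) = F.presheaf.map (homOfLE hj).op (σ ij.2)}, by
        refine isOpen_iff_forall_mem_open.2 fun q hq => ?_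
        obtain ⟨B, hqB, hi, hj, he⟩ := hq
        exact ⟨B, fun r hr => ⟨B, hr, hi, hj, he⟩, B.2, hqB⟩⟩
      have hcomp : IsCompact ((W ij.1 ⊓ W ij.2 : X.Opens) : Set X) := by
        have h1 : ∀ k : P, IsCompact (((f ⁻¹ᵁ V₀).ι ⁻¹ᵁ W k : (f ⁻¹ᵁ V₀).toScheme.Opens) : Set (f ⁻¹ᵁ V₀).toScheme) := fun k => by
          have hr : (W k : Set X) ⊆ Set.range (f ⁻¹ᵁ V₀).ι := by
            rw [Scheme.Opens.range_ι]; exact hWV k
          refine (f ⁻¹ᵁ V₀).ι.isOpenEmbedding.isInducing.isCompact_iff.2 ?_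
          show IsCompact ((f ⁻¹ᵁ V₀).ι '' ((f ⁻¹ᵁ V₀).ι ⁻¹' (W k : Set X)))
          rw [Set.image_preimage_eq_of_subset hr]
          exact (hWa k).isCompact
        have h2 := QuasiSeparatedSpace.inter_isCompact _ _ ((f ⁻¹ᵁ V₀).ι ⁻¹ᵁ W ij.1).2 (h1 ij.1)
          ((f ⁻¹ᵁ V₀).ι ⁻¹ᵁ W ij.2).2 (h1 ij.2)
        convert h2.image (f ⁻¹ᵁ V₀).ι.continuous
        ext x
        exact ⟨fun hx => ⟨⟨x, hWV _ hx.1⟩, hx, rfl⟩, fun ⟨z, hz, e⟩ => e ▸ hz⟩
      obtain ⟨V₂, -, hsV₂, -, hle⟩ := shrink f (hV := hV₀) (hsV := hsV₀) (W := W ij.1 ⊓ W ij.2) (O := O)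
        (inf_le_left.trans (hWV _)) hcomp fun q hq hqs => by
          obtain ⟨B, hqB, i, j, he⟩ := F.presheaf.germ_eq q hq.1 hq.2 _ _
            ((hσ ij.1 q hq.1 hqs).trans (hσ ij.2 q hq.2 hqs).symm)
          exact ⟨B, hqB, i.le, j.le, he⟩
      obtain ⟨V', hV', hsV', hle'⟩ := exists_isAffineOpen_mem_and_subset (x := s) (U := V ⊓ V₂) ⟨hsV, hsV₂⟩
      refine ⟨V', hV', hsV', (hle'.trans inf_le_left).trans hVV₁, fun kl hkl q hi hj hq => ?_⟩
      rcases Finset.mem_insert.1 hkl with rfl | hkl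
      · obtain ⟨B, hqB, h1, h2, he⟩ := hle ⟨⟨hi, hj⟩, (hle' hq).2⟩
        rw [← F.presheaf.germ_res_apply (homOfLE h1) q hqB, he, F.presheaf.germ_res_apply]
      · exact hagree kl hkl q hi hj (hle' hq).1
  obtain ⟨V, hV, hsV, hVV₁, hagree⟩ := key (T ×ˢ T)
  let B : T → X.Opens := fun i => W i.1 ⊓ f ⁻¹ᵁ V
  have hcov : f ⁻¹ᵁ V ≤ iSup B := fun q hq => by
    obtain ⟨p, hp, hqp⟩ := Set.mem_iUnion₂.1 (hT (hVV₁ hq))
    exact Opens.mem_iSup.2 ⟨⟨p, hp⟩, hqp, hq⟩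
  obtain ⟨τ, hτ, -⟩ := TopCat.Sheaf.existsUnique_gluing' ⟨F.presheaf, F.isSheaf⟩ B (f ⁻¹ᵁ V)
    (fun i => homOfLE inf_le_right) hcov
    (fun i => F.presheaf.map (homOfLE (inf_le_left : B i ≤ W i.1)).op (σ i.1)) fun i j => by
      refine TopCat.Presheaf.section_ext ⟨F.presheaf, F.isSheaf⟩ (B i ⊓ B j) _ _ fun q hq => ?_
      erw [TopCat.Presheaf.germ_res_apply, TopCat.Presheaf.germ_res_apply, TopCat.Presheaf.germ_res_apply,
        TopCat.Presheaf.germ_res_apply]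
      exact hagree (i.1, j.1) (Finset.mem_product.2 ⟨i.2, j.2⟩) q hq.1.1 hq.2.1 hq.1.2
  refine ⟨((Scheme.Modules.pushforward f).obj F).presheaf.germ V s hsV τ, fun p hp => ?_⟩
  rw [spG_germ]
  have hpV : p ∈ f ⁻¹ᵁ V := hp.mem_open V.2 hsV
  obtain ⟨i, hi⟩ := Opens.mem_iSup.1 (hcov hpV)
  have h1 := congrArg (F.presheaf.germ (B i) p hi) (hτ i)
  erw [TopCat.Presheaf.germ_res_apply, TopCat.Presheaf.germ_res_apply] at h1
  exact h1.trans (hσ i.1 p hi.1 hp)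

end Groth.Agent.H11PushDepth
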